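import Mathlib
import Cfsg.Agent.Lib.CD.Basic
import Cfsg.Agent.Lib.GNiles.Basic
/-!
Subgroups of largest measure `|H| |C_S(H)|` when abelian subgroups attain it.
-/

set_option autoImplicit false
set_option linter.unusedSectionVars false

namespace Cfsg.Agent.Lib.GNilesMax

open Subgroup
open Cfsg.Agent.Lib
open Cfsg.Agent.Lib.GNiles

variable {G : Type*} [Group G] [Finite G]

/-- The largest measure is attained by the abelian subgroups of largest order. -/
structure Sat (S : Subgroup G) : Prop where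
  max : ∀ A, IsLag S A → ∀ H ≤ S,
    Nat.card H * Nat.card (S ⊓ centralizer (H : Set G) : Subgroup G) ≤ Nat.card A * Nat.card A

/-- A subgroup of largest measure. -/
def Large (S H : Subgroup G) : Prop :=
  H ≤ S ∧ ∀ K ≤ S, Nat.card K * Nat.card (S ⊓ centralizer (K : Set G) : Subgroup G) ≤
    Nat.card H * Nat.card (S ⊓ centralizer (H : Set G) : Subgroup G)

variable {S : Subgroup G}

theorem card_subgroupOf {H : Subgroup G} (hH : H ≤ S) : Nat.card (H.subgroupOf S) = Nat.card H :=
  Nat.card_congr (subgroupOfEquivOfLe hH).toEquiv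

theorem centralizer_subgroupOf {H : Subgroup G} (hH : H ≤ S) :
    centralizer ((H.subgroupOf S : Subgroup S) : Set S) =
      (S ⊓ centralizer (H : Set G)).subgroupOf S := by
  ext x
  constructor
  · exact fun hx => ⟨x.2, mem_centralizer_iff.2 fun h hh =>
      congrArg Subtype.val (mem_centralizer_iff.1 hx ⟨h, hH hh⟩ hh)⟩
  · exact fun hx => mem_centralizer_iff.2 fun h hh =>
      Subtype.ext (mem_centralizer_iff.1 hx.2 (h : G) hh)

theorem cdMeasure_subgroupOf {H : Subgroup G} (hH : H ≤ S) :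
    CD.cdMeasure (H.subgroupOf S) = Nat.card H * Nat.card (S ⊓ centralizer (H : Set G) : Subgroup G) := by
  rw [CD.cdMeasure, centralizer_subgroupOf hH, card_subgroupOf hH, card_subgroupOf inf_le_left]

namespace Sat

variable (h : Sat S)

include h

theorem large_iff {H : Subgroup G} (hH : H ≤ S) :
    Large S H ↔ Cfsg.IsCentralizerLarge (H.subgroupOf S) := by
  rw [CD.centralizerLarge_iff]
  constructor
  · intro hL K
    rw [cdMeasure_subgroupOf hH]
    have e : (K.map S.subtype).subgroupOf S = K := comap_map_eq_self_of_injective S.subtype_injective K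
    rw [← e, cdMeasure_subgroupOf (map_subtype_le K)]
    exact hL.2 _ (map_subtype_le K)
  · intro hL
    refine ⟨hH, fun K hK => ?_⟩
    have h1 := hL (K.subgroupOf S)
    rwa [cdMeasure_subgroupOf hK, cdMeasure_subgroupOf hH] at h1

theorem large_lag {A : Subgroup G} (hA : IsLag S A) : Large S A := by
  refine ⟨hA.le, fun K hK => ?_⟩
  have e : S ⊓ centralizer (A : Set G) = A := le_antisymm
    (fun x hx => hA.cent hx.1 (mem_centralizer_iff.1 hx.2)) (le_inf hA.le hA.comm)
  rw [e]; exact h.max A hA K hK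

theorem centralizer_centralizer {H : Subgroup G} (hH : Large S H) :
    S ⊓ centralizer ((S ⊓ centralizer (H : Set G) : Subgroup G) : Set G) = H := by
  obtain ⟨-, h2⟩ := CD.centralizerLarge_centralizer ((h.large_iff hH.1).1 hH)
  rw [centralizer_subgroupOf hH.1, centralizer_subgroupOf inf_le_left] at h2
  have h3 := congrArg (Subgroup.map S.subtype) h2
  rwa [map_subgroupOf_eq_of_le inf_le_left, map_subgroupOf_eq_of_le hH.1] at h3

theorem sup_inf {H K : Subgroup G} (hH : Large S H) (hK : Large S K) :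
    Large S (H ⊔ K) ∧ Large S (H ⊓ K) ∧ (∀ x ∈ H ⊔ K, ∃ a ∈ H, ∃ b ∈ K, x = a * b) ∧
      S ⊓ centralizer ((H ⊓ K : Subgroup G) : Set G) =
        (S ⊓ centralizer (H : Set G)) ⊔ (S ⊓ centralizer (K : Set G)) := by
  obtain ⟨h1, h2, h3, -, h5⟩ := CD.centralizerLarge_sup_inf ((h.large_iff hH.1).1 hH)
    ((h.large_iff hK.1).1 hK)
  have hi : (H ⊓ K).subgroupOf S = H.subgroupOf S ⊓ K.subgroupOf S := comap_inf _ _ _
  have hs : (H ⊔ K).subgroupOf S = H.subgroupOf S ⊔ K.subgroupOf S := subgroupOf_sup hH.1 hK.1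
  refine ⟨(h.large_iff (sup_le hH.1 hK.1)).2 (hs ▸ h1),
    (h.large_iff (inf_le_left.trans hH.1)).2 (hi ▸ h2), fun x hx => ?_, ?_⟩
  · have hxS : x ∈ S := sup_le hH.1 hK.1 hx
    have hx' : (⟨x, hxS⟩ : S) ∈ (((H.subgroupOf S) ⊔ (K.subgroupOf S) : Subgroup S) : Set S) := by
      rw [← hs]; exact hx
    rw [h3] at hx'
    obtain ⟨a, ha, b, hb, e⟩ := Set.mem_mul.1 hx'
    exact ⟨a, ha, b, hb, (congrArg Subtype.val e).symm⟩
  · rw [← hi, centralizer_subgroupOf (inf_le_left.trans hH.1), centralizer_subgroupOf hH.1,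
      centralizer_subgroupOf hK.1, ← subgroupOf_sup inf_le_left inf_le_left] at h5
    have h6 := congrArg (Subgroup.map S.subtype) h5
    rwa [map_subgroupOf_eq_of_le inf_le_left,
      map_subgroupOf_eq_of_le (sup_le inf_le_left inf_le_left)] at h6

theorem large_sSup {T : Set (Subgroup G)} (hne : T.Nonempty) (hT : ∀ H ∈ T, Large S H) :
    Large S (sSup T) := by
  classical
  have hfin : T.Finite := Set.toFinite T
  have hne' : hfin.toFinset.Nonempty := hfin.toFinset_nonempty.2 hne
  have : sSup T = hfin.toFinset.sup' hne' id := by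
    refine le_antisymm (sSup_le fun H hH => ?_) (Finset.sup'_le _ _ fun H hH => ?_)
    · exact Finset.le_sup' (f := id) (hfin.mem_toFinset.2 hH)
    · exact le_sSup (hfin.mem_toFinset.1 hH)
  rw [this]
  exact Finset.sup'_induction _ _ (fun a ha b hb => (h.sup_inf ha hb).1)
    (fun H hH => hT H (hfin.mem_toFinset.1 hH))

theorem card_le {H K : Subgroup G} (hH : Large S H) (hK : K ≤ S) :
    Nat.card K * Nat.card (S ⊓ centralizer (K : Set G) : Subgroup G) ≤
      Nat.card H * Nat.card (S ⊓ centralizer (H : Set G) : Subgroup G) :=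
  hH.2 K hK

end Sat

end Cfsg.Agent.Lib.GNilesMax
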