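import Mathlib
import Cfsg.Agent.Lib.GNiles.OpPart
import Cfsg.Agent.Lib.GNilesMax.Large
/-!
A subgroup `A` and an opposite conjugate of it.
-/

set_option autoImplicit false
set_option linter.unusedSectionVars false

namespace Cfsg.Agent.Lib.GNilesMax

open Subgroup
open Cfsg.Agent.Lib
open Cfsg.Agent.Lib.GNiles
open Cfsg.Agent.Lib.SL2 (SLtwo PSLtwo)
open scoped commutatorElement

variable {G : Type*} [Group G] [Finite G] {p : ℕ} [hp : Fact p.Prime]
  {F : Type} [Field F] [Fintype F] {n : ℕ}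
variable {S A : Subgroup G} {ψ : G →* PSLtwo F}

/-- The hypotheses on one group and one abelian subgroup of largest order outside `O_p(G)`. -/
structure Base (p : ℕ) (S A : Subgroup G) (n : ℕ) (ψ : G →* PSLtwo F) : Prop where
  ctx : Ctx p S n ψ
  sat : Sat S
  lag : IsLag S A
  out : ¬ A ≤ Cfsg.pCore p G

/-- The part of `A` in `O_p(G)`. -/
abbrev uPart (p : ℕ) (A : Subgroup G) : Subgroup G := A ⊓ Cfsg.pCore p G

theorem map_uPart (A : Subgroup G) (g : G) :
    (uPart p A).map (cj g) = A.map (cj g) ⊓ Cfsg.pCore p G := by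
  rw [uPart, map_inf _ _ (cj g) (MulAut.conj g).injective, map_cj_normal (Cfsg.pCore p G) g]

namespace Base

variable (b : Base p S A n ψ)

include b

theorem uPart_comm {u v : G} (hu : u ∈ uPart p A) (hv : v ∈ uPart p A) : u * v = v * u :=
  comm_eq b.lag.comm hu.1 hv.1

theorem uPart_inf_W : uPart p A ⊓ centralizer (Cfsg.pCore p G : Set G) = zen S := by
  rw [← b.ctx.W_inf b.lag b.out, inf_assoc, inf_eq_right.2 b.ctx.W_le, inf_comm]

theorem zen_le_uPart : zen S ≤ uPart p A := b.uPart_inf_W ▸ inf_le_left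

/-- An element of `S` centralising `W` lies in `O_p(G)`. -/
theorem mem_D_of_comm {s : G} (hs : s ∈ S)
    (h : ∀ w ∈ centralizer (Cfsg.pCore p G : Set G), s * w = w * s) : s ∈ Cfsg.pCore p G := by
  by_contra hsD
  have hle : centralizer (Cfsg.pCore p G : Set G) ≤ zen S := fun w hw =>
    b.ctx.fix_W b.lag b.out hs hsD hw (h w hw)
  have := b.ctx.index_zen b.lag b.out
  rw [relIndex_eq_one.2 hle] at this
  exact b.ctx.setup.one_lt.ne this

/-- The pair `A`, `A^g`. -/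
theorem pair {g : G} (hg : Opp ψ g) :
    (∀ x ∈ uPart p A ⊔ (uPart p A).map (cj g), ∃ u ∈ uPart p A, ∃ u' ∈ (uPart p A).map (cj g),
      x = u * u') ∧
    centralizer (Cfsg.pCore p G : Set G) ≤ uPart p A ⊔ (uPart p A).map (cj g) ∧
    Cfsg.pCore p G ⊓ centralizer ((uPart p A ⊓ (uPart p A).map (cj g) : Subgroup G) : Set G) =
      uPart p A ⊔ (uPart p A).map (cj g) ∧
    S ⊓ centralizer ((uPart p A ⊔ (uPart p A).map (cj g) : Subgroup G) : Set G) =
      (uPart p A ⊓ (uPart p A).map (cj g)) ⊔ centralizer (Cfsg.pCore p G : Set G) ∧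
    Large S (uPart p A ⊔ (uPart p A).map (cj g)) ∧
    (∀ x ∈ uPart p A, x ∈ (uPart p A).map (cj g) ⊔ centralizer (Cfsg.pCore p G : Set G) →
      ∃ i ∈ uPart p A ⊓ (uPart p A).map (cj g), ∃ z ∈ zen S, x = i * z) := by
  set D := Cfsg.pCore p G
  set W := centralizer (D : Set G)
  set U := uPart p A
  set U' := U.map (cj g)
  haveI : W.Normal := inferInstance
  have hDS : D ≤ S := b.ctx.setup.le_S
  have hUD : U ≤ D := inf_le_right
  have hU'D : U' ≤ D := (map_uPart A g).le.trans inf_le_right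
  have hHlag : IsLag S (U ⊔ W) := b.ctx.lagUW b.lag b.out
  have eK : (U ⊔ W).map (cj g) = U' ⊔ W := by rw [Subgroup.map_sup, map_cj_normal W g]
  have hKlag : IsLag S (U' ⊔ W) := eK ▸ hHlag.map_conj
    (eK.le.trans ((sup_le hU'D b.ctx.W_le).trans hDS))
  have hcentH : ∀ {B : Subgroup G}, IsLag S B → S ⊓ centralizer (B : Set G) = B := fun hB =>
    le_antisymm (fun x hx => hB.cent hx.1 (mem_centralizer_iff.1 hx.2)) (le_inf hB.le hB.comm)
  obtain ⟨hsup, hinf, hmul, hcent⟩ := b.sat.sup_inf (b.sat.large_lag hHlag) (b.sat.large_lag hKlag)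
  rw [hcentH hHlag, hcentH hKlag] at hcent
  obtain ⟨hZW, -⟩ := b.ctx.sup_zen_conj b.lag b.out hg
  have hZ'U' : (zen S).map (cj g) ≤ U' := map_mono b.zen_le_uPart
  have hWX : W ≤ U ⊔ U' := hZW.ge.trans (sup_le_sup b.zen_le_uPart hZ'U')
  have hsupeq : (U ⊔ W) ⊔ (U' ⊔ W) = U ⊔ U' := le_antisymm
    (sup_le (sup_le le_sup_left hWX) (sup_le le_sup_right hWX))
    (sup_le_sup le_sup_left le_sup_left)
  have hlast : ∀ x ∈ U, x ∈ U' ⊔ W → ∃ i ∈ U ⊓ U', ∃ z ∈ zen S, x = i * z := by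
    intro x hx hx'
    obtain ⟨u', hu', w, hw, rfl⟩ := mem_sup_of_normal_right.1 hx'
    obtain ⟨z, hz, z', hz', rfl⟩ := b.ctx.W_mul b.lag b.out hg hw
    have e : u' * (z * z') = u' * z' * z := by
      rw [b.ctx.W_comm (b.ctx.zen_le_W hz) (b.ctx.zen_map_le_W g hz'), mul_assoc]
    refine ⟨u' * z', ⟨?_, mul_mem hu' (hZ'U' hz')⟩, z, hz, e⟩
    have := mul_mem hx (inv_mem (b.zen_le_uPart hz))
    rwa [e, mul_inv_cancel_right] at this
  have hinfeq : (U ⊔ W) ⊓ (U' ⊔ W) = (U ⊓ U') ⊔ W := by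
    refine le_antisymm (fun x hx => ?_)
      (sup_le (inf_le_inf le_sup_left le_sup_left) (le_inf le_sup_right le_sup_right))
    obtain ⟨u, hu, w, hw, rfl⟩ := mem_sup_of_normal_right.1 hx.1
    have hu' : u ∈ U' ⊔ W := by
      have hw' : w ∈ U' ⊔ W := mem_sup_right hw
      have hx2 : u * w ∈ U' ⊔ W := hx.2
      simpa using mul_mem hx2 (inv_mem hw')
    obtain ⟨i, hi, z, hz, rfl⟩ := hlast u hu hu'
    exact mul_mem (mul_mem (mem_sup_left hi) (mem_sup_right (b.ctx.zen_le_W hz))) (mem_sup_right hw)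
  rw [hsupeq, hinfeq] at hcent
  rw [hinfeq] at hinf
  rw [hsupeq] at hmul hsup
  have hcentD : D ⊓ centralizer ((U ⊓ U' : Subgroup G) : Set G) = U ⊔ U' := by
    refine le_antisymm (fun x hx => hcent.le ⟨hDS hx.1, ?_⟩) (le_inf (sup_le hUD hU'D) ?_)
    · rw [CD.centralizer_sup]
      exact ⟨hx.2, mem_centralizer_iff.2 fun w hw => (b.ctx.D_comm_W hx.1 hw).symm⟩
    · exact (hcent.ge.trans inf_le_right).trans (centralizer_le (SetLike.coe_subset_coe.2 le_sup_left))
  refine ⟨fun x hx => ?_, hWX, hcentD, ?_, hsup, hlast⟩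
  · obtain ⟨a, ha, a', ha', rfl⟩ := hmul x hx
    obtain ⟨u, hu, w, hw, rfl⟩ := mem_sup_of_normal_right.1 ha
    obtain ⟨u', hu', w', hw', rfl⟩ := mem_sup_of_normal_right.1 ha'
    obtain ⟨z, hz, z', hz', e⟩ := b.ctx.W_mul b.lag b.out hg (W.mul_mem hw hw')
    refine ⟨u * z, mul_mem hu (b.zen_le_uPart hz), u' * z', mul_mem hu' (hZ'U' hz'), ?_⟩
    have e1 : w * (u' * w') = u' * (w * w') := by
      rw [← mul_assoc, ← b.ctx.D_comm_W (hU'D hu') hw, mul_assoc]
    have e2 : u' * z = z * u' := b.ctx.D_comm_W (hU'D hu') (b.ctx.zen_le_W hz)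
    calc u * w * (u' * w') = u * (u' * (w * w')) := by rw [mul_assoc, e1]
      _ = u * ((u' * z) * z') := by rw [e, mul_assoc]
      _ = _ := by rw [e2]; group
  · have h1 := b.sat.centralizer_centralizer hinf
    rwa [hcent] at h1

theorem gen_top {g : G} (hg : Opp ψ g) : (A ⊔ A.map (cj g)) ⊔ Cfsg.pCore p G = ⊤ := by
  rw [eq_top_iff, ← b.ctx.sup_conj hg]
  have h1 := b.ctx.sup_D b.lag b.out
  refine sup_le (h1.ge.trans (sup_le_sup_right le_sup_left _)) ?_
  calc S.map (cj g) ≤ (A ⊔ Cfsg.pCore p G).map (cj g) := map_mono h1.ge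
    _ = A.map (cj g) ⊔ Cfsg.pCore p G := by
      rw [Subgroup.map_sup, map_cj_normal (Cfsg.pCore p G) g]
    _ ≤ _ := sup_le_sup_right le_sup_right _

theorem pair_le_centralizer (g : G) :
    A ⊔ A.map (cj g) ≤ centralizer ((uPart p A ⊓ (uPart p A).map (cj g) : Subgroup G) : Set G) := by
  refine sup_le (fun a ha => mem_centralizer_iff.2 fun i hi => comm_eq b.lag.comm hi.1.1 ha) ?_
  rintro _ ⟨a, ha, rfl⟩
  refine mem_centralizer_iff.2 fun i hi => ?_
  obtain ⟨u, hu, rfl⟩ := hi.2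
  rw [← map_mul, ← map_mul, comm_eq b.lag.comm hu.1 ha]

theorem pair_conj {g : G} (hg : Opp ψ g) {l x : G} (hl : l ∈ A ⊔ A.map (cj g))
    (hx : x ∈ uPart p A ⊔ (uPart p A).map (cj g)) :
    l * x * l⁻¹ ∈ uPart p A ⊔ (uPart p A).map (cj g) := by
  rw [← (b.pair hg).2.2.1] at hx ⊢
  refine ⟨(inferInstance : (Cfsg.pCore p G).Normal).conj_mem x hx.1 l,
    mem_centralizer_iff.2 fun i hi => ?_⟩
  have h1 : i * l = l * i := mem_centralizer_iff.1 (b.pair_le_centralizer g hl) i hi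
  have h2 : i * x = x * i := mem_centralizer_iff.1 hx.2 i hi
  have h3 : i * l⁻¹ = l⁻¹ * i := (show Commute i l from h1).inv_right.eq
  calc i * (l * x * l⁻¹) = (i * l) * x * l⁻¹ := by group
    _ = l * (i * x) * l⁻¹ := by rw [h1]; group
    _ = l * x * (i * l⁻¹) := by rw [h2]; group
    _ = _ := by rw [h3]; group

end Base

end Cfsg.Agent.Lib.GNilesMax
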