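import Mathlib
import Cfsg.Agent.Lib.GNilesMax.Core
/-!
`X / I` is abelian and `a ↦ [a, ·]` maps one half onto the other.
-/

set_option autoImplicit false
set_option linter.unusedSectionVars false

namespace Cfsg.Agent.Lib.GNilesMax

open Subgroup
open Cfsg.Agent.Lib
open Cfsg.Agent.Lib.GNiles
open Cfsg.Agent.Lib.SL2 (SLtwo PSLtwo)
open scoped commutatorElement

variable {G : Type*} [Group G] [Finite G] {p : ℕ} [hp : Fact p.Prime]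
  {F : Type} [Field F] [Fintype F] {n : ℕ}
variable {S A : Subgroup G} {ψ : G →* PSLtwo F}

namespace Base

variable (b : Base p S A n ψ)

include b

theorem xPart_le_pCore : xPart p A ≤ Cfsg.pCore p G := inf_le_left

theorem iPart_comm {i x : G} (hi : i ∈ iPart p A) (hx : x ∈ xPart p A) : i * x = x * i :=
  mem_centralizer_iff.1 hx.2 i hi

theorem conj_iPart {x i : G} (hx : x ∈ xPart p A) (hi : i ∈ iPart p A) : x * i * x⁻¹ = i := by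
  rw [← b.iPart_comm hi hx, mul_inv_cancel_right]

theorem opA_conj_iPart {g i : G} (hg : g ∈ opG p G ⊔ A) (hi : i ∈ iPart p A) : g * i * g⁻¹ = i := by
  obtain ⟨k, hk, a, ha, rfl⟩ := mem_sup_of_normal_left.1 hg
  rw [show k * a * i * (k * a)⁻¹ = k * (a * i * a⁻¹) * k⁻¹ by group, b.comm_A_iPart ha hi,
    mul_inv_cancel_right, b.iPart_conj hk hi]

theorem uPart_le_xPart : uPart p A ≤ xPart p A := le_sup_left.trans b.uPartW_le_xPart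

theorem W_le_xPart : centralizer (Cfsg.pCore p G : Set G) ≤ xPart p A :=
  le_sup_right.trans b.uPartW_le_xPart

theorem uConj_le_xPart {g : G} (hgP : g ∈ opG p G) : (uPart p A).map (cj g) ≤ xPart p A :=
  (map_mono b.uPart_le_xPart).trans (b.xPart_cj hgP).le

theorem uConj_comm {g u v : G} (hu : u ∈ (uPart p A).map (cj g)) (hv : v ∈ (uPart p A).map (cj g)) :
    u * v = v * u := by
  obtain ⟨x, hx, rfl⟩ := hu
  obtain ⟨y, hy, rfl⟩ := hv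
  rw [← map_mul, ← map_mul, b.uPart_comm hx hy]

theorem A_comm_u {a u : G} (ha : a ∈ A) (hu : u ∈ uPart p A) : a * u = u * a :=
  comm_eq b.lag.comm ha hu.1

/-- An element of `U'` fixed by `a` modulo `I` lies in `I`. -/
theorem fix_uConj {g a u' : G} (hg : Opp ψ g) (hgP : g ∈ opG p G) (ha : a ∈ A)
    (haD : a ∉ Cfsg.pCore p G) (hu' : u' ∈ (uPart p A).map (cj g))
    (h : ⁅a, u'⁆ ∈ iPart p A) : u' ∈ iPart p A := by
  have h1 : a * u' * a⁻¹ ∈ (uPart p A).map (cj g) := by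
    rw [show a * u' * a⁻¹ = ⁅a, u'⁆ * u' by rw [commutatorElement_def]; group]
    exact mul_mem (b.iPart_le_cj hgP h) hu'
  have h2 : a * u' * a⁻¹ ∈ iPart p A :=
    (b.step_six hg hgP ha haD).1.le ⟨h1, mem_map_of_mem (cj a) hu'⟩
  have h3 := b.opA_conj_iPart (mem_sup_right (inv_mem ha)) h2
  rw [inv_inv, show a⁻¹ * (a * u' * a⁻¹) * a = u' by group] at h3
  exact h3 ▸ h2

/-- An element of `X` fixed by `A` modulo `I` lies in `U`. -/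
theorem mem_uPart_of_fix {x : G} (hx : x ∈ xPart p A) (h : ∀ a ∈ A, ⁅a, x⁆ ∈ iPart p A) :
    x ∈ uPart p A := by
  obtain ⟨o, ho, hopp⟩ := b.ctx.exists_opp
  obtain ⟨a, ha, haD⟩ := SetLike.not_le_iff_exists.1 b.out
  obtain ⟨u, hu, u', hu', rfl⟩ := b.xPart_dec hopp ho hx
  refine mul_mem hu (b.iPart_le_uPart (b.fix_uConj hopp ho ha haD hu' ?_))
  have h1 := h a ha
  rw [show ⁅a, u * u'⁆ = ⁅a, u⁆ * (u * ⁅a, u'⁆ * u⁻¹) by simp [commutatorElement_def, mul_assoc],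
    commutatorElement_eq_one_iff_mul_comm.2 (b.A_comm_u ha hu), one_mul] at h1
  have h2 := b.conj_iPart (inv_mem (b.uPart_le_xPart hu)) h1
  rw [inv_inv, show u⁻¹ * (u * ⁅a, u'⁆ * u⁻¹) * u = ⁅a, u'⁆ by group] at h2
  exact h2 ▸ h1

/-- `[X, X] ≤ I`. -/
theorem xx_mem {x y : G} (hx : x ∈ xPart p A) (hy : y ∈ xPart p A) : ⁅x, y⁆ ∈ iPart p A := by
  set X := xPart p A
  set I := iPart p A
  have hcm : ∀ {s t : G}, s ∈ X → t ∈ X → ⁅s, t⁆ ∈ X := fun hs ht => by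
    rw [commutatorElement_def]
    exact X.mul_mem (X.mul_mem (X.mul_mem hs ht) (X.inv_mem hs)) (X.inv_mem ht)
  let T1 : Subgroup G :=
    { carrier := {s | s ∈ X ∧ ∀ t ∈ X, ⁅s, t⁆ ∈ I}
      one_mem' := ⟨X.one_mem, fun t _ => by simp⟩
      mul_mem' := fun {s s'} hs hs' => ⟨X.mul_mem hs.1 hs'.1, fun t ht => by
        rw [show ⁅s * s', t⁆ = s * ⁅s', t⁆ * s⁻¹ * ⁅s, t⁆ by simp [commutatorElement_def, mul_assoc],
          b.conj_iPart hs.1 (hs'.2 t ht)]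
        exact mul_mem (hs'.2 t ht) (hs.2 t ht)⟩
      inv_mem' := fun {s} hs => ⟨X.inv_mem hs.1, fun t ht => by
        rw [show ⁅s⁻¹, t⁆ = s⁻¹ * ⁅s, t⁆⁻¹ * s⁻¹⁻¹ by simp [commutatorElement_def, mul_assoc],
          b.conj_iPart (X.inv_mem hs.1) (inv_mem (hs.2 t ht))]
        exact inv_mem (hs.2 t ht)⟩ }
  have hT1conj : ∀ s ∈ T1, ∀ t ∈ X, t * s * t⁻¹ ∈ T1 := fun s hs t ht => by
    rw [show t * s * t⁻¹ = ⁅s, t⁆⁻¹ * s by simp [commutatorElement_def, mul_assoc]]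
    exact mul_mem ⟨b.iPart_le_xPart (inv_mem (hs.2 t ht)), fun v hv => by
      rw [commutatorElement_eq_one_iff_mul_comm.2 (b.iPart_comm (inv_mem (hs.2 t ht)) hv)]
      exact one_mem _⟩ hs
  let T2 : Subgroup G :=
    { carrier := {s | s ∈ X ∧ ∀ t ∈ X, ⁅s, t⁆ ∈ T1}
      one_mem' := ⟨X.one_mem, fun t _ => by rw [commutatorElement_one_left]; exact one_mem _⟩
      mul_mem' := fun {s s'} hs hs' => ⟨X.mul_mem hs.1 hs'.1, fun t ht => by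
        rw [show ⁅s * s', t⁆ = s * ⁅s', t⁆ * s⁻¹ * ⁅s, t⁆ by simp [commutatorElement_def, mul_assoc]]
        exact mul_mem (hT1conj _ (hs'.2 t ht) s hs.1) (hs.2 t ht)⟩
      inv_mem' := fun {s} hs => ⟨X.inv_mem hs.1, fun t ht => by
        rw [show ⁅s⁻¹, t⁆ = s⁻¹ * ⁅s, t⁆⁻¹ * s⁻¹⁻¹ by simp [commutatorElement_def, mul_assoc]]
        exact hT1conj _ (inv_mem (hs.2 t ht)) _ (X.inv_mem hs.1)⟩ }
  suffices hall : X ≤ T1 from (hall hx).2 y hy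
  by_contra hne
  obtain ⟨o, ho, hopp⟩ := b.ctx.exists_opp
  set U := uPart p A
  set U' := U.map (cj o)
  have hUX : U ≤ X := b.uPart_le_xPart
  have hU'X : U' ≤ X := b.uConj_le_xPart ho
  -- the conjugation invariance of `X`, `T1`, `T2`
  have hgX : ∀ g ∈ opG p G ⊔ A, ∀ s ∈ T1, g * s * g⁻¹ ∈ T1 := fun g hg s hs =>
    ⟨b.xPart_conj hg hs.1, fun t ht => by
      have h1 := hs.2 (g⁻¹ * t * g) (by simpa using b.xPart_conj (inv_mem hg) ht)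
      have h2 := b.opA_conj_iPart hg h1
      rw [show ⁅g * s * g⁻¹, t⁆ = g * ⁅s, g⁻¹ * t * g⁆ * g⁻¹ by
        simp [commutatorElement_def, mul_assoc], h2]
      exact h1⟩
  have hgX2 : ∀ g ∈ opG p G ⊔ A, ∀ s ∈ T2, g * s * g⁻¹ ∈ T2 := fun g hg s hs =>
    ⟨b.xPart_conj hg hs.1, fun t ht => by
      rw [show ⁅g * s * g⁻¹, t⁆ = g * ⁅s, g⁻¹ * t * g⁆ * g⁻¹ by
        simp [commutatorElement_def, mul_assoc]]
      exact hgX g hg _ (hs.2 _ (by simpa using b.xPart_conj (inv_mem hg) ht))⟩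
  have hsplit : ∀ u ∈ U, ∀ u' ∈ U', u * u' ∈ T2 → u ∈ T2 ∧ u' ∈ T2 := by
    intro u hu u' hu' h
    have h' : u' ∈ T2 := by
      refine ⟨hU'X hu', fun t ht => ?_⟩
      obtain ⟨v, hv, v', hv', rfl⟩ := b.xPart_dec hopp ho ht
      rw [show ⁅u', v * v'⁆ = ⁅u', v⁆ * (v * ⁅u', v'⁆ * v⁻¹) by simp [commutatorElement_def, mul_assoc],
        commutatorElement_eq_one_iff_mul_comm.2 (b.uConj_comm hu' hv'), mul_one, mul_inv_cancel, mul_one]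
      have h1 := h.2 v (hUX hv)
      rw [show ⁅u * u', v⁆ = u * ⁅u', v⁆ * u⁻¹ * ⁅u, v⁆ by simp [commutatorElement_def, mul_assoc],
        commutatorElement_eq_one_iff_mul_comm.2 (b.uPart_comm hu hv), mul_one] at h1
      simpa [mul_assoc] using hT1conj _ h1 u⁻¹ (inv_mem (hUX hu))
    exact ⟨by simpa using mul_mem h (inv_mem h'), h'⟩
  -- `U' ∩ T2 ≤ T1`
  have hXS : X ≤ S := b.xPart_le_pCore.trans b.ctx.setup.le_S
  suffices hU'T : ∀ u' ∈ U', u' ∈ T2 → u' ∈ T1 by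
    obtain ⟨k, hk, hk1, hk2⟩ := exists_fixed_mod b.ctx.setup.isPGroup (P := X) hXS hXS hne
      fun s hs t ht => hcm hs ht
    obtain ⟨u, hu, u', hu', rfl⟩ := b.xPart_dec hopp ho hk
    obtain ⟨hu2, hu'2⟩ := hsplit u hu u' hu' ⟨hk, hk2⟩
    refine hk1 (mul_mem ?_ (hU'T u' hu' hu'2))
    have h1 := hU'T _ (mem_map_of_mem (cj o) hu) (hgX2 o (mem_sup_left ho) u hu2)
    have h2 := hgX o⁻¹ (mem_sup_left (inv_mem ho)) _ h1
    rwa [inv_inv, cj_apply, show o⁻¹ * (o * u * o⁻¹) * o = u by group] at h2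
  by_contra hcon
  push Not at hcon
  obtain ⟨w', hw'U, hw'2, hw'1⟩ := hcon
  set H := T1 ⊔ (T2 ⊓ U)
  have hnorm : T2 ⊓ U ≤ normalizer (T1 : Set G) := fun t ht => mem_normalizer_iff.2 fun s =>
    ⟨fun hs => hT1conj s hs t ht.1.1, fun hs => by
      simpa [mul_assoc] using hT1conj _ hs t⁻¹ (inv_mem ht.1.1)⟩
  have hHdec : ∀ s ∈ H, ∃ t ∈ T1, ∃ v ∈ T2 ⊓ U, s = t * v := fun s hs => by
    rw [← SetLike.mem_coe, coe_mul_of_right_le_normalizer_left _ _ hnorm] at hs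
    obtain ⟨t, ht, v, hv, rfl⟩ := Set.mem_mul.1 hs
    exact ⟨t, ht, v, hv, rfl⟩
  have hT12 : T1 ≤ T2 := fun s hs => ⟨hs.1, fun t ht =>
    ⟨b.iPart_le_xPart (hs.2 t ht), fun v hv => by
      rw [commutatorElement_eq_one_iff_mul_comm.2 (b.iPart_comm (hs.2 t ht) hv)]; exact one_mem _⟩⟩
  have hHv : ∀ s ∈ H, ∀ v ∈ U, ⁅s, v⁆ ∈ I := fun s hs v hv => by
    obtain ⟨t, ht, w, hw, rfl⟩ := hHdec s hs
    rw [show ⁅t * w, v⁆ = t * ⁅w, v⁆ * t⁻¹ * ⁅t, v⁆ by simp [commutatorElement_def, mul_assoc],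
      commutatorElement_eq_one_iff_mul_comm.2 (b.uPart_comm hw.2 hv), mul_one, mul_inv_cancel, one_mul]
    exact ht.2 v (hUX hv)
  have hw'H : w' ∉ H := fun hH => hw'1 ⟨hU'X hw'U, fun t ht => by
    obtain ⟨v, hv, v', hv', rfl⟩ := b.xPart_dec hopp ho ht
    rw [show ⁅w', v * v'⁆ = ⁅w', v⁆ * (v * ⁅w', v'⁆ * v⁻¹) by simp [commutatorElement_def, mul_assoc],
      commutatorElement_eq_one_iff_mul_comm.2 (b.uConj_comm hw'U hv'), mul_one, mul_inv_cancel, mul_one]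
    exact hHv w' hH v hv⟩
  obtain ⟨k, hk, hkH, hka⟩ := exists_fixed_mod b.ctx.setup.isPGroup (P := A) b.lag.le (K := T2) (H := H)
    (fun s hs => hXS hs.1) (fun h => hw'H (h hw'2)) fun s hs a ha => by
      rw [show ⁅s, a⁆ = s * (a * s⁻¹ * a⁻¹) by rw [commutatorElement_def]; group]
      exact mul_mem hs (hgX2 a (mem_sup_right ha) _ (inv_mem hs))
  obtain ⟨u, hu, u', hu', rfl⟩ := b.xPart_dec hopp ho hk.1
  obtain ⟨hu2, hu'2⟩ := hsplit u hu u' hu' hk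
  have huH : u ∈ H := mem_sup_right ⟨hu2, hu⟩
  refine hkH (mul_mem huH ?_)
  refine mem_sup_left ⟨hU'X hu', fun t ht => ?_⟩
  obtain ⟨v, hv, v', hv', rfl⟩ := b.xPart_dec hopp ho ht
  rw [show ⁅u', v * v'⁆ = ⁅u', v⁆ * (v * ⁅u', v'⁆ * v⁻¹) by simp [commutatorElement_def, mul_assoc],
    commutatorElement_eq_one_iff_mul_comm.2 (b.uConj_comm hu' hv'), mul_one, mul_inv_cancel, mul_one]
  -- `⁅u', v⁆` lies in `U` for all `v ∈ U`
  have hcU : ∀ v ∈ U, ⁅u', v⁆ ∈ U := by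
    intro v hv
    refine b.mem_uPart_of_fix (hcm (hU'X hu') (hUX hv)) fun a ha => ?_
    set c := ⁅u', v⁆
    have hc1 : c ∈ T1 := hu'2.2 v (hUX hv)
    set h := ⁅a, u'⁆
    have hh : h ∈ H := by
      have h1 := hka a ha
      rw [show ⁅u * u', a⁆ = u * ⁅a, u'⁆⁻¹ * u⁻¹ * ⁅u, a⁆ by simp [commutatorElement_def, mul_assoc],
        commutatorElement_eq_one_iff_mul_comm.2 (b.A_comm_u ha hu).symm, mul_one] at h1
      have h2 := mul_mem (mul_mem (inv_mem huH) h1) huH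
      rw [show u⁻¹ * (u * h⁻¹ * u⁻¹) * u = h⁻¹ by group] at h2
      exact inv_mem_iff.1 h2
    have e : a * c * a⁻¹ = h * c * h⁻¹ * ⁅h, v⁆ := by
      have h1 : a * v * a⁻¹ = v := by rw [b.A_comm_u ha hv, mul_inv_cancel_right]
      calc a * c * a⁻¹ = ⁅a * u' * a⁻¹, a * v * a⁻¹⁆ := by simp [c, commutatorElement_def, mul_assoc]
        _ = ⁅h * u', v⁆ := by rw [h1]; simp [h, commutatorElement_def, mul_assoc]
        _ = _ := by simp [c, commutatorElement_def, mul_assoc]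
    have hhX : h ∈ X := (sup_le (fun s hs => hs.1) (inf_le_right.trans hUX) : H ≤ X) hh
    have h3 : ⁅h, c⁆ ∈ I := by
      rw [← commutatorElement_inv]; exact inv_mem (hc1.2 h hhX)
    rw [show ⁅a, c⁆ = (a * c * a⁻¹) * c⁻¹ by simp [commutatorElement_def], e,
      show h * c * h⁻¹ * ⁅h, v⁆ * c⁻¹ = ⁅h, c⁆ * (c * ⁅h, v⁆ * c⁻¹) by
        simp [commutatorElement_def, mul_assoc], b.conj_iPart hc1.1 (hHv h hh v hv)]
    exact mul_mem h3 (hHv h hh v hv)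
  obtain ⟨a₀, ha₀, ha₀D⟩ := SetLike.not_le_iff_exists.1 b.out
  set a' := o * a₀ * o⁻¹
  have hopa : Opp ψ a' := b.ctx.opp_conj hopp (b.lag.le ha₀) ha₀D
  have ha'G : a' ∈ opG p G ⊔ A :=
    mul_mem (mul_mem (mem_sup_left ho) (mem_sup_right ha₀)) (inv_mem (mem_sup_left ho))
  refine (b.opp_facts hopa).2 ⟨hcU v hv, mem_map_cj.2 ?_⟩
  have hcomm : a'⁻¹ * u' * a' = u' := by
    obtain ⟨w, hw, rfl⟩ := hu'
    have := b.A_comm_u ha₀ hw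
    calc (o * a₀ * o⁻¹)⁻¹ * (o * w * o⁻¹) * (o * a₀ * o⁻¹) = o * a₀⁻¹ * (w * a₀) * o⁻¹ := by group
      _ = _ := by rw [← this]; simp [cj_apply, mul_assoc]
  obtain ⟨v₁, hv₁, v₁', hv₁', e⟩ := b.xPart_dec hopp ho
    (show a'⁻¹ * v * a' ∈ X by simpa using b.xPart_conj (inv_mem ha'G) (hUX hv))
  have e2 : a'⁻¹ * ⁅u', v⁆ * a' = ⁅u', v₁⁆ := by
    rw [show a'⁻¹ * ⁅u', v⁆ * a' = ⁅a'⁻¹ * u' * a', a'⁻¹ * v * a'⁆ by
        simp [commutatorElement_def, mul_assoc], hcomm, e,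
      show ⁅u', v₁ * v₁'⁆ = ⁅u', v₁⁆ * (v₁ * ⁅u', v₁'⁆ * v₁⁻¹) by
        simp [commutatorElement_def, mul_assoc],
      commutatorElement_eq_one_iff_mul_comm.2 (b.uConj_comm hu' hv₁'), mul_one, mul_inv_cancel, mul_one]
  rw [e2]
  exact hcU v₁ hv₁

/-- `[a, U'] ≤ U W`. -/
theorem comm_mem_UW {g a u' : G} (hgP : g ∈ opG p G) (ha : a ∈ A)
    (hu' : u' ∈ (uPart p A).map (cj g)) :
    ⁅a, u'⁆ ∈ uPart p A ⊔ centralizer (Cfsg.pCore p G : Set G) := by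
  set c := ⁅a, u'⁆
  have hu'X := b.uConj_le_xPart hgP hu'
  have hcX : c ∈ xPart p A := by
    rw [show c = a * u' * a⁻¹ * u'⁻¹ from rfl]
    exact mul_mem (b.xPart_conj (mem_sup_right ha) hu'X) (inv_mem hu'X)
  refine (b.ctx.lagUW b.lag b.out).cent (b.ctx.setup.le_S (b.xPart_le_pCore hcX)) fun x hx => ?_
  obtain ⟨v, hv, w, hw, rfl⟩ := mem_sup_of_normal_right.1 hx
  have hvX := b.uPart_le_xPart hv
  have hfix := b.opA_conj_iPart (mem_sup_right ha) (b.xx_mem hvX hu'X)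
  have hav : a * v * a⁻¹ = v := by rw [b.A_comm_u ha hv, mul_inv_cancel_right]
  have e : a * ⁅v, u'⁆ * a⁻¹ = ⁅v, c * u'⁆ := by
    calc a * ⁅v, u'⁆ * a⁻¹ = ⁅a * v * a⁻¹, a * u' * a⁻¹⁆ := by simp [commutatorElement_def, mul_assoc]
      _ = _ := by rw [hav]; simp [c, commutatorElement_def, mul_assoc]
  have e3 : ⁅v, u'⁆ = ⁅v, c⁆ * ⁅v, u'⁆ := by
    conv_lhs => rw [← hfix, e]
    rw [show ⁅v, c * u'⁆ = ⁅v, c⁆ * (c * ⁅v, u'⁆ * c⁻¹) by simp [commutatorElement_def, mul_assoc],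
      b.conj_iPart hcX (b.xx_mem hvX hu'X)]
  have hvc : v * c = c * v := commutatorElement_eq_one_iff_mul_comm.1 (right_eq_mul.1 e3)
  exact ((show Commute v c from hvc).mul_left (b.ctx.D_comm_W (b.xPart_le_pCore hcX) hw).symm).eq

/-- If `[a, u'] ∈ I W` then `u' ∈ I W`. -/
theorem fix_uConj_mod {g a u' : G} (hg : Opp ψ g) (hgP : g ∈ opG p G) (ha : a ∈ A)
    (haD : a ∉ Cfsg.pCore p G) (hu' : u' ∈ (uPart p A).map (cj g))
    (h : ⁅a, u'⁆ ∈ iPart p A ⊔ centralizer (Cfsg.pCore p G : Set G)) :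
    u' ∈ iPart p A ⊔ centralizer (Cfsg.pCore p G : Set G) := by
  rw [← b.centralizer_xPart] at h ⊢
  refine ⟨b.ctx.setup.le_S (b.xPart_le_pCore (b.uConj_le_xPart hgP hu')), ?_⟩
  rw [(b.step_six hg hgP ha haD).2, CD.centralizer_sup]
  refine ⟨mem_centralizer_iff.2 fun v hv => b.uConj_comm hv hu', mem_centralizer_iff.2 ?_⟩
  rintro _ ⟨v, hv, rfl⟩
  have hcv : (a * v * a⁻¹) * ⁅a, u'⁆ = ⁅a, u'⁆ * (a * v * a⁻¹) := mem_centralizer_iff.1 h.2 _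
    (b.xPart_conj (mem_sup_right ha) (b.uConj_le_xPart hgP hv))
  have hcu : (a * v * a⁻¹) * (a * u' * a⁻¹) = (a * u' * a⁻¹) * (a * v * a⁻¹) := by
    have := congrArg (cj a) (b.uConj_comm hv hu')
    simpa [cj_apply] using this
  have := (show Commute (a * v * a⁻¹) ⁅a, u'⁆ from hcv).inv_right.mul_right
    (show Commute (a * v * a⁻¹) (a * u' * a⁻¹) from hcu)
  rwa [show ⁅a, u'⁆⁻¹ * (a * u' * a⁻¹) = u' by simp [commutatorElement_def, mul_assoc]] at this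

/-- An element fixed by `a'⁻¹ a` modulo `I` lies in `I`. -/
theorem fix_mem_iPart {g a a₁ x : G} (hg : Opp ψ g) (hgP : g ∈ opG p G) (ha : a ∈ A)
    (haD : a ∉ Cfsg.pCore p G) (ha₁ : a₁ ∈ A) (ha₁D : a₁ ∉ Cfsg.pCore p G) (hx : x ∈ xPart p A)
    (h : ⁅(g * a₁ * g⁻¹)⁻¹ * a, x⁆ ∈ iPart p A) : x ∈ iPart p A := by
  set W := centralizer (Cfsg.pCore p G : Set G)
  haveI : W.Normal := inferInstance
  set a' := g * a₁ * g⁻¹
  set I := iPart p A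
  obtain ⟨u, hu, u', hu', rfl⟩ := b.xPart_dec hg hgP hx
  have hgG : g ∈ opG p G ⊔ A := mem_sup_left hgP
  have ha'G : a' ∈ opG p G ⊔ A := mul_mem (mul_mem hgG (mem_sup_right ha₁)) (inv_mem hgG)
  set u₀ := g⁻¹ * u * g
  have hu₀ : u₀ ∈ (uPart p A).map (cj g⁻¹) := ⟨u, hu, by simp [cj_apply, u₀]⟩
  have hc'eq : ⁅a', u⁆ = g * ⁅a₁, u₀⁆ * g⁻¹ := by simp [a', u₀, commutatorElement_def, mul_assoc]
  have hc' : ⁅a', u⁆ ∈ (uPart p A).map (cj g) ⊔ W := by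
    rw [hc'eq, ← map_cj_normal W g, ← Subgroup.map_sup]
    exact mem_map_of_mem _ (b.comm_mem_UW (inv_mem hgP) ha₁ hu₀)
  have hc : ⁅a, u'⁆ ∈ uPart p A ⊔ W := b.comm_mem_UW hgP ha hu'
  have huX := b.uPart_le_xPart hu
  have hu'X := b.uConj_le_xPart hgP hu'
  have hc'X : ⁅a', u⁆ ∈ xPart p A := (sup_le (b.uConj_le_xPart hgP) b.W_le_xPart) hc'
  have hcX : ⁅a, u'⁆ ∈ xPart p A := (sup_le b.uPart_le_xPart b.W_le_xPart) hc
  have e1 : a * (u * u') * a⁻¹ = u * ⁅a, u'⁆ * u' := by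
    have : a * u * a⁻¹ = u := by rw [b.A_comm_u ha hu, mul_inv_cancel_right]
    calc a * (u * u') * a⁻¹ = (a * u * a⁻¹) * (a * u' * a⁻¹) := by group
      _ = _ := by rw [this]; simp [commutatorElement_def, mul_assoc]
  have e2 : a' * (u * u') * a'⁻¹ = ⁅a', u⁆ * u * u' := by
    have : a' * u' * a'⁻¹ = u' := by
      obtain ⟨v, hv, rfl⟩ := hu'
      have := b.A_comm_u ha₁ hv
      calc g * a₁ * g⁻¹ * (g * v * g⁻¹) * (g * a₁ * g⁻¹)⁻¹ = g * (a₁ * v) * a₁⁻¹ * g⁻¹ := by group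
        _ = _ := by rw [this]; simp [cj_apply, mul_assoc]
    calc a' * (u * u') * a'⁻¹ = (a' * u * a'⁻¹) * (a' * u' * a'⁻¹) := by group
      _ = _ := by rw [this]; simp [commutatorElement_def, mul_assoc]
  have h1 : a * (u * u') * a⁻¹ * (a' * (u * u') * a'⁻¹)⁻¹ ∈ I := by
    have := b.opA_conj_iPart ha'G h
    rw [show a * (u * u') * a⁻¹ * (a' * (u * u') * a'⁻¹)⁻¹ = a' * ⁅a'⁻¹ * a, u * u'⁆ * a'⁻¹ by
      simp [commutatorElement_def, mul_assoc], this]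
    exact h
  have h2 : ⁅a, u'⁆ * ⁅a', u⁆⁻¹ ∈ I := by
    rw [e1, e2] at h1
    have h3 := b.xx_mem huX hcX
    have e : ⁅a, u'⁆ * ⁅a', u⁆⁻¹ = ⁅u, ⁅a, u'⁆⁆⁻¹ * (u * ⁅a, u'⁆ * u' * (⁅a', u⁆ * u * u')⁻¹) := by
      simp [commutatorElement_def, mul_assoc]
    rw [e]
    exact mul_mem (inv_mem h3) h1
  obtain ⟨-, -, -, -, -, hlast⟩ := b.pair hg
  have hcIW : ⁅a, u'⁆ ∈ I ⊔ W := by
    obtain ⟨v, hv, w, hw, e⟩ := mem_sup_of_normal_right.1 hc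
    have h3 : v ∈ (uPart p A).map (cj g) ⊔ W := by
      have h4 : ⁅a, u'⁆ ∈ (uPart p A).map (cj g) ⊔ W := by
        rw [show ⁅a, u'⁆ = (⁅a, u'⁆ * ⁅a', u⁆⁻¹) * ⁅a', u⁆ by group]
        exact mul_mem (mem_sup_left (b.iPart_le_cj hgP h2)) hc'
      have hw' : w ∈ (uPart p A).map (cj g) ⊔ W := mem_sup_right hw
      rw [← e] at h4
      simpa using mul_mem h4 (inv_mem hw')
    obtain ⟨i, hi, z, hz, rfl⟩ := hlast v hv h3
    rw [← e]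
    exact mul_mem (mul_mem (mem_sup_left ((b.inf_eq_iPart hg hgP).le hi))
      (mem_sup_right (b.ctx.zen_le_W hz))) (mem_sup_right hw)
  have hu'IW : u' ∈ I ⊔ W := b.fix_uConj_mod hg hgP ha haD hu' hcIW
  have hc'IW : ⁅a', u⁆ ∈ I ⊔ W := by
    rw [show ⁅a', u⁆ = (⁅a, u'⁆ * ⁅a', u⁆⁻¹)⁻¹ * ⁅a, u'⁆ by group]
    exact mul_mem (mem_sup_left (inv_mem h2)) hcIW
  have hgIW : ∀ k ∈ opG p G ⊔ A, ∀ y ∈ I ⊔ W, k * y * k⁻¹ ∈ I ⊔ W := fun k hk y hy => by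
    obtain ⟨i, hi, w, hw, rfl⟩ := mem_sup_of_normal_right.1 hy
    rw [show k * (i * w) * k⁻¹ = (k * i * k⁻¹) * (k * w * k⁻¹) by group, b.opA_conj_iPart hk hi]
    exact mul_mem (mem_sup_left hi) (mem_sup_right ((inferInstance : W.Normal).conj_mem w hw k))
  have huIW : u ∈ I ⊔ W := by
    have h5 : ⁅a₁, u₀⁆ ∈ I ⊔ W := by
      have := hgIW g⁻¹ (inv_mem hgG) _ hc'IW
      rwa [hc'eq, inv_inv, show g⁻¹ * (g * ⁅a₁, u₀⁆ * g⁻¹) * g = ⁅a₁, u₀⁆ by group] at this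
    have h6 := hgIW g hgG _ (b.fix_uConj_mod hg.inv (inv_mem hgP) ha₁ ha₁D hu₀ h5)
    rwa [show g * u₀ * g⁻¹ = u by simp [u₀, mul_assoc]] at h6
  obtain ⟨i, hi, w, hw, e⟩ := mem_sup_of_normal_right.1 (mul_mem huIW hu'IW)
  rw [← e] at e1 e2 h1 ⊢
  have hai : a * i * a⁻¹ = i := b.opA_conj_iPart (mem_sup_right ha) hi
  have ha'i : a' * i * a'⁻¹ = i := b.opA_conj_iPart ha'G hi
  have hwW1 : ⁅a, w⁆ ∈ zen S := b.ctx.comm_mem_zen b.lag b.out (b.lag.le ha) hw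
  have hwW2 : ⁅a', w⁆ ∈ (zen S).map (cj g) := by
    refine ⟨⁅a₁, g⁻¹ * w * g⁆, b.ctx.comm_mem_zen b.lag b.out (b.lag.le ha₁) ?_, ?_⟩
    · simpa using (inferInstance : W.Normal).conj_mem w hw g⁻¹
    · simp [cj_apply, a', commutatorElement_def, mul_assoc]
  have h7 : ⁅a, w⁆ * ⁅a', w⁆⁻¹ ∈ center G := by
    have h8 : a * (i * w) * a⁻¹ * (a' * (i * w) * a'⁻¹)⁻¹ = i * (⁅a, w⁆ * ⁅a', w⁆⁻¹) * i⁻¹ := by
      calc a * (i * w) * a⁻¹ * (a' * (i * w) * a'⁻¹)⁻¹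
          = (a * i * a⁻¹) * (a * w * a⁻¹) * ((a' * w * a'⁻¹)⁻¹ * (a' * i * a'⁻¹)⁻¹) := by group
        _ = _ := by rw [hai, ha'i]; simp [commutatorElement_def, mul_assoc]
    rw [h8] at h1
    have h9 : ⁅a, w⁆ * ⁅a', w⁆⁻¹ ∈ I := by
      have := mul_mem (mul_mem (inv_mem hi) h1) hi
      simpa [mul_assoc] using this
    rw [← b.ctx.W_inf_c0 b.lag b.out]
    have hm1 : ⁅a, w⁆ ∈ W := b.ctx.zen_le_W hwW1
    have hm2 : ⁅a', w⁆ ∈ W := b.ctx.zen_map_le_W g hwW2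
    have hm : ⁅a, w⁆ * ⁅a', w⁆⁻¹ ∈ W := mul_mem hm1 (inv_mem hm2)
    exact ⟨hm, h9.2⟩
  have h10 : ⁅a, w⁆ ∈ center G := by
    rw [← b.ctx.inf_zen_conj hg]
    refine ⟨hwW1, ?_⟩
    rw [show ⁅a, w⁆ = (⁅a, w⁆ * ⁅a', w⁆⁻¹) * ⁅a', w⁆ by group]
    exact mul_mem (b.ctx.center_le_map g h7) hwW2
  have h11 : ⁅a', w⁆ ∈ center G := by
    rw [show ⁅a', w⁆ = (⁅a, w⁆ * ⁅a', w⁆⁻¹)⁻¹ * ⁅a, w⁆ by group]
    exact mul_mem (inv_mem h7) h10
  refine mul_mem hi (b.center_le_iPart ?_)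
  rw [← b.ctx.inf_zen_conj hg]
  exact ⟨b.ctx.fix_W_mod b.lag b.out (b.lag.le ha) haD hw h10,
    b.ctx.fix_W_mod_conj b.lag b.out g (b.lag.le ha₁) ha₁D hw h11⟩

end Base

end Cfsg.Agent.Lib.GNilesMax
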