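import Mathlib
import Cfsg.Agent.Lib.GNilesMax.Layer
import Cfsg.Agent.Lib.Coprime.Quotient

/-!
An element of order prime to `p` whose square has no fixed point on `X / I`, for odd `p`.
-/

set_option autoImplicit false
set_option linter.unusedSectionVars false

namespace Cfsg.Agent.Lib.GNilesMax

open Subgroup
open Cfsg.Agent.Lib
open Cfsg.Agent.Lib.GNiles
open Cfsg.Agent.Lib.SL2 (SLtwo PSLtwo proj upper lower)
open scoped commutatorElement

/-- If `k = a'⁻¹ a` inverts `u u'`, its odd powers invert `u` up to the twist killed by the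
exponent. -/
theorem twist {X : Type*} [CommGroup X] (α β : X →* X) {U U' : Subgroup X}
    (hα : ∀ u ∈ U, α u = u) (hβ : ∀ u ∈ U', β u = u) (hαU : ∀ u ∈ U', α u * u⁻¹ ∈ U)
    (hβU : ∀ u ∈ U, β u * u⁻¹ ∈ U') (hd : U ⊓ U' = ⊥) {u u' : X} (hu : u ∈ U) (hu' : u' ∈ U')
    (h : α (u * u') * β (u * u') = 1) (κ : X →* X) (hκ : ∀ x, β (κ x) = α x)
    (hβi : Function.Injective β) :
    α u' * u'⁻¹ = (u * u)⁻¹ ∧
      ∀ m : ℕ, Odd m → (u * u') ^ m = 1 → (fun x => κ x)^[m] u = u⁻¹ := by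
  set c := β u * u⁻¹ with hc
  set d := α u' * u'⁻¹ with hd'
  have hc' : c ∈ U' := hβU u hu
  have hd'' : d ∈ U := hαU u' hu'
  have eβ : β u = c * u := by rw [hc, inv_mul_cancel_right]
  have eα : α u' = d * u' := by rw [hd', inv_mul_cancel_right]
  have h1 : d * (u * u) = (c * (u' * u'))⁻¹ := by
    rw [eq_inv_iff_mul_eq_one]
    calc d * (u * u) * (c * (u' * u')) = u * (d * u') * (c * u * u') := by ac_rfl
      _ = 1 := by rw [← eα, ← eβ]; rw [map_mul, map_mul, hα u hu, hβ u' hu'] at h; exact h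
  have hm1 : d * (u * u) ∈ U := mul_mem hd'' (mul_mem hu hu)
  have hm2 : d * (u * u) ∈ U' := h1 ▸ inv_mem (mul_mem hc' (mul_mem hu' hu'))
  have h2 : d * (u * u) = 1 := mem_bot.1 (hd.le ⟨hm1, hm2⟩)
  have h3 : c * (u' * u') = 1 := by
    rw [h2] at h1; exact inv_eq_one.1 h1.symm
  have hd2 : d = (u * u)⁻¹ := eq_inv_of_mul_eq_one_left h2
  have hc2 : c = (u' * u')⁻¹ := eq_inv_of_mul_eq_one_left h3
  refine ⟨hd2, fun m hm hym => ?_⟩
  set y := u * u' with hy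
  -- `κ` on `u` and on `y`
  have hκu : κ u = u⁻¹ * (y * y) := by
    apply hβi
    rw [hκ, hα u hu, hy]
    simp only [map_mul, map_inv, eβ, hβ u' hu', hc2, mul_inv_rev, inv_inv]
    apply Additive.ofMul.injective
    simp only [ofMul_mul, ofMul_inv]
    abel
  have hκy : κ y = y⁻¹ := by
    apply hβi
    rw [hκ, map_inv]
    exact eq_inv_of_mul_eq_one_left h
  have key : ∀ j : ℕ, (Even j → (fun x => κ x)^[j] u = u * ((y * y) ^ j)⁻¹) ∧
      (Odd j → (fun x => κ x)^[j] u = u⁻¹ * (y * y) ^ j) := by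
    intro j
    induction j with
    | zero => exact ⟨fun _ => by simp, fun h0 => absurd h0 (by simp)⟩
    | succ j ih =>
      constructor
      · intro hj
        have hjo : Odd j := by
          rwa [Nat.even_add_one, Nat.not_even_iff_odd] at hj
        rw [Function.iterate_succ_apply', ih.2 hjo]
        simp only [map_mul, map_inv, map_pow, hκu, hκy, pow_succ, mul_inv_rev, inv_inv, inv_pow,
          mul_pow, mul_assoc, mul_comm, mul_left_comm]
      · intro hj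
        have hje : Even j := by
          rwa [Nat.odd_add_one, Nat.not_odd_iff_even] at hj
        rw [Function.iterate_succ_apply', ih.1 hje]
        simp only [map_mul, map_inv, map_pow, hκu, hκy, pow_succ, mul_inv_rev, inv_inv, inv_pow,
          mul_pow, mul_assoc, mul_comm, mul_left_comm]
  rw [(key m).2 hm, mul_pow, hym, mul_one, mul_one]

variable {G : Type*} [Group G] [Finite G] {p : ℕ} [hp : Fact p.Prime]
  {F : Type} [Field F] [Fintype F] {n : ℕ}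
variable {S A : Subgroup G} {ψ : G →* PSLtwo F}

namespace Base

variable (b : Base p S A n ψ)

include b

/-- `k = a'⁻¹ a` with `ψ k` an involution. -/
theorem exists_k (hp2 : p ≠ 2) : ∃ g a a₁ : G, g ∈ opG p G ∧ Opp ψ g ∧ a ∈ A ∧
    a ∉ Cfsg.pCore p G ∧ a₁ ∈ A ∧ a₁ ∉ Cfsg.pCore p G ∧
    ψ ((g * a₁ * g⁻¹)⁻¹ * a) * ψ ((g * a₁ * g⁻¹)⁻¹ * a) = 1 ∧
    Opp ψ ((g * a₁ * g⁻¹)⁻¹ * a) := by
  obtain ⟨g, hgP, hg⟩ := b.ctx.exists_opp
  obtain ⟨a, ha, haD⟩ := SetLike.not_le_iff_exists.1 b.out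
  obtain ⟨t, ht0, ht⟩ := b.ctx.exists_t (b.lag.le ha) haD
  obtain ⟨M, hM⟩ := SL2.proj_surjective (ψ g)
  have hc := hg M hM
  haveI : CharP F p := charP_of_card_eq_prime_pow b.ctx.setup.card
  have h2F : (2 : F) ≠ 0 := by
    intro h0
    have : ((2 : ℕ) : F) = 0 := by exact_mod_cast h0
    rw [CharP.cast_eq_zero_iff F p] at this
    exact hp2 ((Nat.prime_dvd_prime_iff_eq hp.out Nat.prime_two).1 this)
  set t₁ : F := (-2) / (t * M 1 0 * M 1 0)
  have ht₁ : t₁ ≠ 0 := div_ne_zero (neg_ne_zero.2 h2F) (mul_ne_zero (mul_ne_zero ht0 hc) hc)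
  obtain ⟨s, hs, hsψ⟩ := b.ctx.setup.exists_mem t₁
  obtain ⟨a₁, ha₁, d, hd, rfl⟩ := b.ctx.exists_mul b.lag b.out hs
  have hψ : ψ a₁ = proj (upper t₁) := by
    rw [← hsψ, map_mul, show ψ d = 1 from b.ctx.setup.le_ker hd, mul_one]
  have ha₁D : a₁ ∉ Cfsg.pCore p G := fun hD => by
    have h1 : ψ a₁ = 1 := b.ctx.setup.le_ker hD
    rw [hψ] at h1
    exact ht₁ (RankOnePush.proj_upper_inj (h1.trans (by rw [SL2.upper_zero, map_one] :
      (1 : PSLtwo F) = proj (upper 0))))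
  refine ⟨g, a, a₁, hgP, hg, ha, haD, ha₁, ha₁D, ?_, ?_⟩
  · set K : SLtwo F := (M * upper t₁ * M⁻¹)⁻¹ * upper t
    have hK : proj K = ψ ((g * a₁ * g⁻¹)⁻¹ * a) := by
      simp only [K, map_mul, map_inv, hM, hψ, ht]
    have htr : SL2.tr K = 0 := by
      have hd := SL2.det_entries M
      have e : t₁ * (t * M 1 0 * M 1 0) = -2 :=
        div_mul_cancel₀ _ (mul_ne_zero (mul_ne_zero ht0 hc) hc)
      simp [K, SL2.tr, SL2.mul_00, SL2.mul_01, SL2.mul_10, SL2.mul_11, SL2.inv_00, SL2.inv_01,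
        SL2.inv_10, SL2.inv_11]
      linear_combination e + (2 : F) * hd
    have hCH := SL2.cayley_hamilton K
    rw [htr] at hCH
    rw [← hK, ← map_mul, SL2.proj_eq_one_iff, SL2.mem_center_iff_eq]
    right
    simp only [zero_smul] at hCH
    apply Subtype.ext
    show ((K : Matrix (Fin 2) (Fin 2) F)) * K = -(1 : Matrix (Fin 2) (Fin 2) F)
    linear_combination (norm := noncomm_ring) hCH
  · refine b.ctx.opp_mul_right ?_ (b.lag.le ha)
    exact (b.ctx.opp_conj hg (b.lag.le ha₁) ha₁D).inv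

/-- No element of `X` outside `I` is inverted by `k` modulo `I`. -/
theorem inverted_mem_iPart (hp2 : p ≠ 2) {g a a₁ y : G} (hgP : g ∈ opG p G) (hg : Opp ψ g)
    (ha : a ∈ A) (haD : a ∉ Cfsg.pCore p G) (ha₁ : a₁ ∈ A) (ha₁D : a₁ ∉ Cfsg.pCore p G)
    (hk : ψ ((g * a₁ * g⁻¹)⁻¹ * a) * ψ ((g * a₁ * g⁻¹)⁻¹ * a) = 1)
    (hkO : Opp ψ ((g * a₁ * g⁻¹)⁻¹ * a)) (hy : y ∈ xPart p A)
    (hinv : (g * a₁ * g⁻¹)⁻¹ * a * y * ((g * a₁ * g⁻¹)⁻¹ * a)⁻¹ * y ∈ iPart p A) :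
    y ∈ iPart p A := by
  set D := Cfsg.pCore p G with hD
  set W := centralizer (D : Set G) with hW
  haveI : W.Normal := inferInstance
  set a' := g * a₁ * g⁻¹ with ha'
  set k := a'⁻¹ * a with hk'
  set U := uPart p A with hU
  set U' := U.map (cj g) with hU'
  set I := iPart p A with hI
  set X := xPart p A with hX
  have haG : a ∈ opG p G ⊔ A := mem_sup_right ha
  have ha'G : a' ∈ opG p G ⊔ A :=
    mul_mem (mul_mem (mem_sup_left hgP) (mem_sup_right ha₁)) (inv_mem (mem_sup_left hgP))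
  have hkG : k ∈ opG p G ⊔ A := mul_mem (inv_mem ha'G) haG
  -- an odd power killing the `p`-group
  set m := Nat.card D with hm
  obtain ⟨r, hr⟩ := (PSolvable.pCore_isPGroup (G := G) (p := p)).exists_card_eq
  have hmodd : Odd m := by rw [hm, hr]; exact (hp.out.odd_of_ne_two hp2).pow
  set h := k ^ m with hh
  have hhO : Opp ψ h := by
    obtain ⟨i, hi⟩ := hmodd
    have e : ψ h = ψ k := by
      rw [hh, map_pow, hi, pow_succ, pow_mul, pow_two, hk, one_pow, one_mul]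
    intro M hM
    exact hkO M (hM.trans e)
  have hhG : h ∈ opG p G ⊔ A := pow_mem hkG m
  obtain ⟨-, -, -, -, -, hlast⟩ := b.pair hhO
  have hIh : I ≤ U.map (cj h) := fun i hi => by
    rw [← b.opA_conj_iPart hhG hi]
    exact mem_map_of_mem (cj h) (b.iPart_le_uPart hi)
  have hUX : U ≤ X := b.uPart_le_xPart
  have hU'X : U' ≤ X := b.uConj_le_xPart hgP
  have hWX : W ≤ X := b.W_le_xPart
  have ha'fix : ∀ v ∈ U', a' * v * a'⁻¹ = v := by
    rintro _ ⟨w, hw, rfl⟩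
    have := b.A_comm_u ha₁ hw
    calc g * a₁ * g⁻¹ * (g * w * g⁻¹) * (g * a₁ * g⁻¹)⁻¹ = g * (a₁ * w) * a₁⁻¹ * g⁻¹ := by group
      _ = _ := by rw [this]; simp [cj_apply, mul_assoc]
  have hafix : ∀ v ∈ U, a * v * a⁻¹ = v := fun v hv => by
    rw [b.A_comm_u ha hv, mul_inv_cancel_right]
  have hcomm' : ∀ v ∈ U, ⁅a', v⁆ ∈ U' ⊔ W := by
    intro v hv
    set v₀ := g⁻¹ * v * g
    have hv₀ : v₀ ∈ U.map (cj g⁻¹) := ⟨v, hv, by simp [cj_apply, v₀]⟩
    rw [show ⁅a', v⁆ = g * ⁅a₁, v₀⁆ * g⁻¹ by simp [a', v₀, commutatorElement_def, mul_assoc],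
      hU', ← map_cj_normal W g, ← Subgroup.map_sup]
    exact mem_map_of_mem _ (b.comm_mem_UW (inv_mem hgP) ha₁ hv₀)
  -- the general step on a quotient `Y / N`
  have step : ∀ (Y N U₀ U₁ : Subgroup G), N ≤ Y → Y ≤ X →
      (∀ x ∈ opG p G ⊔ A, ∀ v ∈ Y, x * v * x⁻¹ ∈ Y) →
      (∀ x ∈ opG p G ⊔ A, ∀ v ∈ N, x * v * x⁻¹ ∈ N) →
      (∀ v ∈ Y, ∀ w ∈ Y, ⁅v, w⁆ ∈ N) →
      U₀ ≤ Y → U₁ ≤ Y → U₀ ≤ U → U₁ ≤ U' →
      (∀ v ∈ U₁, ⁅a, v⁆ ∈ U₀ ⊔ N) → (∀ v ∈ U₀, ⁅a', v⁆ ∈ U₁ ⊔ N) →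
      (∀ v ∈ U₀ ⊔ N, v ∈ U₁ ⊔ N → v ∈ N) →
      (∀ v ∈ U₀, h * v * h⁻¹ * v ∈ N → v ∈ N) →
      (∀ v ∈ U₁, ⁅a, v⁆ ∈ N → v ∈ N) →
      ∀ u ∈ U₀, ∀ u' ∈ U₁, k * (u * u') * k⁻¹ * (u * u') ∈ N → u ∈ N ∧ u' ∈ N := by
    intro Y N U₀ U₁ hNY hYX hYn hNn hab hU₀ hU₁ hU₀U hU₁U hcA hcA' hdis hfix hfixa u hu u' hu' hz
    set N' := N.subgroupOf Y with hN'
    haveI hN'n : N'.Normal := ⟨fun v hv w => by
      rw [mem_subgroupOf] at hv ⊢
      rw [Subgroup.coe_mul, Subgroup.coe_mul, InvMemClass.coe_inv,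
        show (w : G) * v * (w : G)⁻¹ = ⁅(w : G), (v : G)⁆ * v by rw [commutatorElement_def]; group]
      exact mul_mem (hab w w.2 v (hNY hv)) hv⟩
    letI : CommGroup (Y ⧸ N') := { (inferInstance : Group (Y ⧸ N')) with
      mul_comm := by
        rintro ⟨v⟩ ⟨w⟩
        show ((v * w : Y) : Y ⧸ N') = ((w * v : Y) : Y ⧸ N')
        rw [QuotientGroup.eq, mem_subgroupOf]
        simpa [commutatorElement_def, mul_assoc] using hab _ (inv_mem w.2) _ (inv_mem v.2) }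
    let π : Y →* Y ⧸ N' := QuotientGroup.mk' N'
    have hπ : ∀ v : Y, π v = 1 ↔ (v : G) ∈ N := fun v =>
      (QuotientGroup.eq_one_iff v).trans mem_subgroupOf
    let act : ∀ x : G, x ∈ opG p G ⊔ A → (Y ⧸ N') →* (Y ⧸ N') := fun x hx =>
      QuotientGroup.map N' N'
        { toFun := fun v => ⟨x * v * x⁻¹, hYn x hx v v.2⟩
          map_one' := Subtype.ext (by simp)
          map_mul' := fun v w => Subtype.ext (by simp [mul_assoc]) }
        (fun v hv => mem_subgroupOf.2 (hNn x hx _ (mem_subgroupOf.1 hv)))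
    have hact : ∀ (x : G) (hx : x ∈ opG p G ⊔ A) (v : Y),
        act x hx (π v) = π ⟨x * v * x⁻¹, hYn x hx v v.2⟩ := fun _ _ _ => rfl
    have hcong : ∀ {v w : Y}, (v : G) = w → π v = π w := fun e => congrArg π (Subtype.ext e)
    set α := act a haG with hα
    set β := act a' ha'G with hβ
    set κ := act k hkG with hκ
    have hactα : ∀ v : Y, α (π v) = π ⟨a * v * a⁻¹, hYn a haG v v.2⟩ := fun _ => rfl
    have hactβ : ∀ v : Y, β (π v) = π ⟨a' * v * a'⁻¹, hYn a' ha'G v v.2⟩ := fun _ => rfl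
    have hactκ : ∀ v : Y, κ (π v) = π ⟨k * v * k⁻¹, hYn k hkG v v.2⟩ := fun _ => rfl
    set Ū := (U₀.subgroupOf Y).map π with hŪ
    set Ū' := (U₁.subgroupOf Y).map π with hŪ'
    have memU : ∀ (V : Subgroup G), V ≤ Y → ∀ v : Y, (v : G) ∈ V ⊔ N →
        π v ∈ (V.subgroupOf Y).map π := by
      intro V hV v hv
      have h1 : v ∈ V.subgroupOf Y ⊔ N' := by
        rw [hN', ← subgroupOf_sup hV hNY, mem_subgroupOf]; exact hv
      have h2 := mem_map_of_mem π h1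
      rwa [Subgroup.map_sup, show N'.map π = ⊥ from (Subgroup.map_eq_bot_iff _).2
        (QuotientGroup.ker_mk' N').ge, sup_bot_eq] at h2
    have h1 := twist α β (U := Ū) (U' := Ū')
      (by rintro _ ⟨v, hv, rfl⟩; rw [hactα]; exact hcong (hafix _ (hU₀U hv)))
      (by rintro _ ⟨v, hv, rfl⟩; rw [hactβ]; exact hcong (ha'fix _ (hU₁U hv)))
      (by
        rintro _ ⟨v, hv, rfl⟩
        rw [hactα, ← map_inv, ← map_mul]
        refine memU U₀ hU₀ _ ?_
        rw [Subgroup.coe_mul, InvMemClass.coe_inv]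
        exact hcA _ hv)
      (by
        rintro _ ⟨v, hv, rfl⟩
        rw [hactβ, ← map_inv, ← map_mul]
        refine memU U₁ hU₁ _ ?_
        rw [Subgroup.coe_mul, InvMemClass.coe_inv]
        exact hcA' _ hv)
      (by
        refine (eq_bot_iff_forall _).2 ?_
        rintro _ ⟨⟨v, hv, rfl⟩, w, hw, he⟩
        refine (hπ v).2 (hdis _ (mem_sup_left hv) ?_)
        have h2 : π (w⁻¹ * v) = 1 := by rw [map_mul, map_inv, he, inv_mul_cancel]
        have h3 := mul_mem (mem_sup_left (T := N) (show (w : G) ∈ U₁ from hw))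
          (mem_sup_right (S := U₁) ((hπ _).1 h2))
        simpa using h3)
      (u := π ⟨u, hU₀ hu⟩) (u' := π ⟨u', hU₁ hu'⟩)
      (mem_map_of_mem π (show (⟨u, hU₀ hu⟩ : Y) ∈ U₀.subgroupOf Y from hu))
      (mem_map_of_mem π (show (⟨u', hU₁ hu'⟩ : Y) ∈ U₁.subgroupOf Y from hu'))
      (by
        rw [← map_mul, hactα, hactβ, ← map_mul, hπ]
        rw [Subgroup.coe_mul]
        have h2 := hNn a' ha'G _ hz
        convert h2 using 1
        simp [k, mul_assoc])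
      κ (fun x => by
        obtain ⟨v, rfl⟩ := QuotientGroup.mk'_surjective N' x
        show β (κ (π v)) = α (π v)
        rw [hactκ, hactβ, hactα]
        exact hcong (by simp [k, mul_assoc]))
      (fun x y hxy => by
        obtain ⟨v, rfl⟩ := QuotientGroup.mk'_surjective N' x
        obtain ⟨w, rfl⟩ := QuotientGroup.mk'_surjective N' y
        refine QuotientGroup.eq.2 (mem_subgroupOf.2 ?_)
        have h2 : β (π (v⁻¹ * w)) = 1 := by
          rw [map_mul, map_mul, map_inv, map_inv]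
          exact inv_mul_eq_one.2 hxy
        rw [hactβ, hπ] at h2
        have h3 := hNn a'⁻¹ (inv_mem ha'G) _ h2
        simpa [mul_assoc] using h3)
    obtain ⟨hd, hpow⟩ := h1
    have hκm : ∀ (j : ℕ) (v : Y), (fun x => κ x)^[j] (π v) =
        π ⟨k ^ j * v * (k ^ j)⁻¹, hYn _ (pow_mem hkG j) v v.2⟩ := by
      intro j v
      induction j with
      | zero => simp
      | succ j ih =>
        rw [Function.iterate_succ_apply', ih]
        show κ (π _) = _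
        rw [hactκ]
        exact hcong (by simp [pow_succ', mul_assoc])
    have hpm : ∀ v : Y, π v ^ m = 1 := fun v => by
      rw [← map_pow, show v ^ m = 1 from Subtype.ext (by
        have h2 : (⟨(v : G), b.xPart_le_pCore (hYX v.2)⟩ : D) ^ m = 1 := pow_card_eq_one'
        simpa using congrArg Subtype.val h2), map_one]
    have h4 := hpow m hmodd (by rw [← map_mul]; exact hpm _)
    rw [hκm, ← map_inv, ← mul_inv_eq_one, ← map_inv, ← map_mul, hπ] at h4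
    have huN : u ∈ N := hfix u hu (by simpa [hh] using h4)
    refine ⟨huN, hfixa u' hu' ?_⟩
    rw [hactα, show π ⟨u, hU₀ hu⟩ = 1 from (hπ _).2 huN, mul_one, inv_one, ← map_inv, ← map_mul,
      hπ] at hd
    simpa [commutatorElement_def] using hd
  -- modulo `I W`
  set IW := I ⊔ W with hIW
  have hIWX : IW ≤ X := sup_le b.iPart_le_xPart hWX
  have hIWn : ∀ x ∈ opG p G ⊔ A, ∀ v ∈ IW, x * v * x⁻¹ ∈ IW := fun x hx v hv => by
    obtain ⟨i, hi, w, hw, rfl⟩ := mem_sup_of_normal_right.1 hv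
    rw [show x * (i * w) * x⁻¹ = (x * i * x⁻¹) * (x * w * x⁻¹) by group, b.opA_conj_iPart hx hi]
    exact mul_mem (mem_sup_left hi) (mem_sup_right ((inferInstance : W.Normal).conj_mem w hw x))
  have hdis : ∀ v ∈ U ⊔ IW, v ∈ U' ⊔ IW → v ∈ IW := by
    intro v hv hv'
    obtain ⟨-, -, -, -, -, hl⟩ := b.pair hg
    have hle : U ⊔ IW ≤ U ⊔ W := sup_le le_sup_left
      (sup_le (b.iPart_le_uPart.trans le_sup_left) le_sup_right)
    have hle' : U' ⊔ IW ≤ U' ⊔ W := sup_le le_sup_left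
      (sup_le ((b.iPart_le_cj hgP).trans le_sup_left) le_sup_right)
    obtain ⟨x, hx, w, hw, rfl⟩ := mem_sup_of_normal_right.1 (hle hv)
    have h2 : x ∈ U' ⊔ W := by
      have := mul_mem (hle' hv') (inv_mem (mem_sup_right (S := U') hw))
      simpa using this
    obtain ⟨i, hi, z, hz, rfl⟩ := hl x hx h2
    exact mul_mem (mul_mem (mem_sup_left ((b.inf_eq_iPart hg hgP).le hi))
      (mem_sup_right (b.ctx.zen_le_W hz))) (mem_sup_right hw)
  have hfix : ∀ v ∈ U, h * v * h⁻¹ * v ∈ IW → v ∈ IW := by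
    intro v hv hz
    have h2 : v ∈ U.map (cj h) ⊔ W := by
      have h3 := mul_mem (inv_mem (mem_sup_left (T := W) (mem_map_of_mem (cj h) hv)))
        ((sup_le_sup_right hIh W) hz)
      simpa [cj_apply, mul_assoc] using h3
    obtain ⟨i, hi, z, hz', rfl⟩ := hlast v hv h2
    exact mul_mem (mem_sup_left ((b.opp_facts hhO).2 hi)) (mem_sup_right (b.ctx.zen_le_W hz'))
  obtain ⟨u, hu, u', hu', rfl⟩ := b.xPart_dec hg hgP hy
  obtain ⟨hu1, hu'1⟩ := step X IW U U' hIWX le_rfl (fun x hx v hv => b.xPart_conj hx hv) hIWn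
    (fun v hv w hw => mem_sup_left (b.xx_mem hv hw)) hUX hU'X le_rfl le_rfl
    (fun v hv => (sup_le_sup_left le_sup_right _ : U ⊔ W ≤ U ⊔ IW) (b.comm_mem_UW hgP ha hv))
    (fun v hv => (sup_le_sup_left le_sup_right _ : U' ⊔ W ≤ U' ⊔ IW) (hcomm' v hv))
    hdis hfix (fun v hv hz => b.fix_uConj_mod hg hgP ha haD hv hz)
    u hu u' hu' (mem_sup_left hinv)
  -- modulo the centre
  obtain ⟨i, hi, w, hw, e⟩ := mem_sup_of_normal_right.1 (mul_mem hu1 hu'1)
  rw [← e] at hinv ⊢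
  obtain ⟨z, hz, z', hz', rfl⟩ := b.ctx.W_mul b.lag b.out hg hw
  have hCW : center G ≤ W := b.ctx.center_le_zen.trans b.ctx.zen_le_W
  have hz'W : (zen S).map (cj g) ≤ W := b.ctx.zen_map_le_W g
  obtain ⟨hz1, hz'1⟩ := step W (center G) (zen S) ((zen S).map (cj g)) hCW hWX
    (fun x _ v hv => (inferInstance : W.Normal).conj_mem v hv x)
    (fun x _ v hv => (inferInstance : (center G).Normal).conj_mem v hv x)
    (fun v hv w hw => by
      rw [commutatorElement_eq_one_iff_mul_comm.2 (b.ctx.W_comm hv hw)]; exact one_mem _)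
    b.ctx.zen_le_W hz'W b.zen_le_uPart (map_mono b.zen_le_uPart)
    (fun v hv => mem_sup_left (b.ctx.comm_mem_zen b.lag b.out (b.lag.le ha) (hz'W hv)))
    (fun v hv => mem_sup_left ⟨⁅a₁, g⁻¹ * v * g⁆, b.ctx.comm_mem_zen b.lag b.out (b.lag.le ha₁)
      (by simpa using (inferInstance : W.Normal).conj_mem v (b.ctx.zen_le_W hv) g⁻¹),
      by simp [cj_apply, a', commutatorElement_def, mul_assoc]⟩)
    (fun v hv hv' => by
      rw [← b.ctx.inf_zen_conj hg]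
      rw [sup_eq_left.2 b.ctx.center_le_zen] at hv
      rw [sup_eq_left.2 (b.ctx.center_le_map g)] at hv'
      exact ⟨hv, hv'⟩)
    (fun v hv hz => by
      rw [← b.ctx.inf_zen_conj hhO]
      refine ⟨hv, ?_⟩
      have h2 := mul_mem (inv_mem (mem_map_of_mem (cj h) hv)) (b.ctx.center_le_map h hz)
      simpa [cj_apply, mul_assoc] using h2)
    (fun v hv hz => by
      rw [← b.ctx.inf_zen_conj hg]
      exact ⟨b.ctx.fix_W_mod b.lag b.out (b.lag.le ha) haD (hz'W hv) hz, hv⟩)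
    z hz z' hz' (by
      have e2 : k * (i * (z * z')) * k⁻¹ * (i * (z * z')) =
          i * i * (k * (z * z') * k⁻¹ * (z * z')) := by
        rw [show k * (i * (z * z')) * k⁻¹ = (k * i * k⁻¹) * (k * (z * z') * k⁻¹) by group,
          b.opA_conj_iPart hkG hi]
        have hc : i * (k * (z * z') * k⁻¹) = k * (z * z') * k⁻¹ * i :=
          b.iPart_comm hi (hWX ((inferInstance : W.Normal).conj_mem _ hw k))
        calc i * (k * (z * z') * k⁻¹) * (i * (z * z')) =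
            i * ((k * (z * z') * k⁻¹) * i) * (z * z') := by group
          _ = _ := by rw [← hc]; group
      rw [e2] at hinv
      rw [← b.ctx.W_inf_c0 b.lag b.out]
      have h2 := mul_mem (inv_mem (mul_mem hi hi)) hinv
      rw [inv_mul_cancel_left] at h2
      exact ⟨W.mul_mem ((inferInstance : W.Normal).conj_mem _ hw k) hw, h2.2⟩)
  exact mul_mem hi (b.center_le_iPart (mul_mem hz1 hz'1))

/-- An element of order prime to `p` moving `O_p(G)` into `X`, whose square has no fixed point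
on `X / I`. -/
theorem exists_sigma_sq (hp2 : p ≠ 2) : ∃ σ : G, p.Coprime (orderOf σ) ∧ Opp ψ σ ∧
    ψ σ * ψ σ = 1 ∧ ∀ x ∈ xPart p A, ⁅σ * σ, x⁆ ∈ iPart p A → x ∈ iPart p A := by
  classical
  obtain ⟨g, a, a₁, hgP, hg, ha, haD, ha₁, ha₁D, hsq, hop⟩ := b.exists_k hp2
  set k := (g * a₁ * g⁻¹)⁻¹ * a
  have hkG : k ∈ opG p G ⊔ A := mul_mem (inv_mem (mul_mem (mul_mem (mem_sup_left hgP)
    (mem_sup_right ha₁)) (inv_mem (mem_sup_left hgP)))) (mem_sup_right ha)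
  set e := (orderOf k).factorization p
  obtain ⟨i, hi⟩ := (hp.out.odd_of_ne_two hp2).pow (n := e)
  have hψσ : ψ (k ^ p ^ e) = ψ k := by
    rw [map_pow, hi, pow_succ, pow_mul, pow_two, hsq, one_pow, one_mul]
  refine ⟨k ^ p ^ e, ?_, ?_, by rw [hψσ, hsq], fun x hx hxσ => ?_⟩
  · rw [orderOf_pow_of_dvd (pow_ne_zero _ hp.out.ne_zero) (Nat.ordProj_dvd _ p)]
    exact Nat.coprime_ordCompl hp.out (orderOf_pos k).ne'
  · intro M hM
    exact hop M (hM.trans hψσ)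
  by_contra hxI
  set τ := k ^ p ^ e * k ^ p ^ e
  have hτG : τ ∈ opG p G ⊔ A := mul_mem (pow_mem hkG _) (pow_mem hkG _)
  set m := orderOf k / p ^ e
  let Fix : Subgroup G :=
    { carrier := {y | y ∈ xPart p A ∧ ⁅τ, y⁆ ∈ iPart p A}
      one_mem' := ⟨one_mem _, by simp⟩
      mul_mem' := fun {y z} hy hz => ⟨mul_mem hy.1 hz.1, by
        rw [show ⁅τ, y * z⁆ = ⁅τ, y⁆ * (y * ⁅τ, z⁆ * y⁻¹) by
          simp [commutatorElement_def, mul_assoc], b.conj_iPart hy.1 hz.2]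
        exact mul_mem hy.2 hz.2⟩
      inv_mem' := fun {y} hy => ⟨inv_mem hy.1, by
        rw [show ⁅τ, y⁻¹⁆ = y⁻¹ * ⁅τ, y⁆⁻¹ * y⁻¹⁻¹ by
          simp [commutatorElement_def, mul_assoc],
          b.conj_iPart (inv_mem hy.1) (inv_mem hy.2)]
        exact inv_mem hy.2⟩ }
  set kp := k ^ m
  have hFn : ∀ y ∈ Fix, ∀ s ∈ zpowers kp, ⁅y, s⁆ ∈ Fix := by
    intro y hy s hs
    obtain ⟨z, rfl⟩ := hs
    have hsG : kp ^ z ∈ opG p G ⊔ A := zpow_mem (pow_mem hkG m) z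
    have hcm : Commute (kp ^ z) τ :=
      (((Commute.refl k).pow_pow m (p ^ e)).mul_right ((Commute.refl k).pow_pow m (p ^ e))).zpow_left z
    have h1 : kp ^ z * y⁻¹ * (kp ^ z)⁻¹ ∈ Fix := by
      refine ⟨b.xPart_conj hsG (inv_mem hy.1), ?_⟩
      have h2 := (Fix.inv_mem hy).2
      rw [show ⁅τ, kp ^ z * y⁻¹ * (kp ^ z)⁻¹⁆ = kp ^ z * ⁅τ, y⁻¹⁆ * (kp ^ z)⁻¹ by
        have e1 := hcm.eq
        have e2 := hcm.inv_inv.eq
        calc ⁅τ, kp ^ z * y⁻¹ * (kp ^ z)⁻¹⁆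
            = (τ * kp ^ z) * y⁻¹ * ((kp ^ z)⁻¹ * τ⁻¹) * kp ^ z * y * (kp ^ z)⁻¹ := by
              simp [commutatorElement_def, mul_assoc]
          _ = (kp ^ z * τ) * y⁻¹ * (τ⁻¹ * (kp ^ z)⁻¹) * kp ^ z * y * (kp ^ z)⁻¹ := by rw [e1, e2]
          _ = _ := by simp [commutatorElement_def, mul_assoc], b.opA_conj_iPart hsG h2]
      exact h2
    rw [show ⁅y, kp ^ z⁆ = y * (kp ^ z * y⁻¹ * (kp ^ z)⁻¹) by rw [commutatorElement_def]; group]
    exact Fix.mul_mem hy h1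
  have hkp : IsPGroup p (zpowers kp) := by
    refine IsPGroup.of_card (n := e) ?_
    rw [Nat.card_zpowers, orderOf_pow_of_dvd (by
      exact (Nat.ordCompl_pos p (orderOf_pos k).ne').ne') (Nat.ordCompl_dvd _ p)]
    exact Nat.div_div_self (Nat.ordProj_dvd _ p) (orderOf_pos k).ne'
  have hFixp : IsPGroup p Fix :=
    PSolvable.pCore_isPGroup.to_le (fun y hy => b.xPart_le_pCore hy.1)
  have hnorm : zpowers kp ≤ normalizer (Fix : Set G) := fun s hs => mem_normalizer_iff.2 fun y =>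
    ⟨fun hy => by
      rw [show s * y * s⁻¹ = ⁅y, s⁆⁻¹ * y by simp [commutatorElement_def, mul_assoc]]
      exact mul_mem (inv_mem (hFn _ hy s hs)) hy, fun hy => by
      have h1 := hFn _ hy s⁻¹ (inv_mem hs)
      have := mul_mem (inv_mem h1) hy
      rwa [show ⁅s * y * s⁻¹, s⁻¹⁆⁻¹ * (s * y * s⁻¹) = y by
        simp [commutatorElement_def, mul_assoc]] at this⟩
  obtain ⟨y, hy, hyI, hyk⟩ := exists_fixed_mod (hkp.to_sup_of_normal_right' hFixp hnorm)
    (P := zpowers kp) (K := Fix) (H := iPart p A) le_sup_left le_sup_right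
    (fun h => hxI (h ⟨hx, hxσ⟩)) hFn
  let St : Subgroup G :=
    { carrier := {s | s ∈ opG p G ⊔ A ∧ ⁅s, y⁆ ∈ iPart p A}
      one_mem' := ⟨one_mem _, by simp⟩
      mul_mem' := fun {s s'} hs hs' => ⟨mul_mem hs.1 hs'.1, by
        rw [show ⁅s * s', y⁆ = s * ⁅s', y⁆ * s⁻¹ * ⁅s, y⁆ by simp [commutatorElement_def, mul_assoc],
          b.opA_conj_iPart hs.1 hs'.2]
        exact mul_mem hs'.2 hs.2⟩
      inv_mem' := fun {s} hs => ⟨inv_mem hs.1, by
        rw [show ⁅s⁻¹, y⁆ = s⁻¹ * ⁅s, y⁆⁻¹ * s⁻¹⁻¹ by simp [commutatorElement_def, mul_assoc],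
          b.opA_conj_iPart (inv_mem hs.1) (inv_mem hs.2)]
        exact inv_mem hs.2⟩ }
  have hs1 : τ ∈ St := ⟨hτG, hy.2⟩
  have hs2 : kp ∈ St := ⟨pow_mem hkG _, by
    rw [← commutatorElement_inv]; exact inv_mem (hyk kp (mem_zpowers kp))⟩
  have hk2 : k * k ∈ St := by
    have hg1 : Nat.gcd (p ^ e) m = 1 :=
      Nat.Coprime.pow_left e (Nat.coprime_ordCompl hp.out (orderOf_pos k).ne')
    obtain ⟨u, v, huv⟩ : ∃ u v : ℤ, ((p ^ e : ℕ) : ℤ) * u + (m : ℤ) * v = 1 :=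
      ⟨Nat.gcdA (p ^ e) m, Nat.gcdB (p ^ e) m, by rw [← Nat.gcd_eq_gcd_ab, hg1]; rfl⟩
    have e3 : k * k = τ ^ u * kp ^ (2 * v) := by
      rw [show τ = k ^ ((2 * p ^ e : ℕ) : ℤ) by rw [zpow_natCast, two_mul, pow_add], ← zpow_mul,
        show kp = k ^ (m : ℤ) from (zpow_natCast k m).symm, ← zpow_mul, ← zpow_add,
        show ((2 * p ^ e : ℕ) : ℤ) * u + (m : ℤ) * (2 * v) = 2 by push_cast at huv ⊢; linarith,
        zpow_two]
    rw [e3]
    exact mul_mem (zpow_mem hs1 u) (zpow_mem hs2 _)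
  -- `y (k y k⁻¹)` is fixed by `k`
  set y' := k * y * k⁻¹ with hy'
  have hy'X : y' ∈ xPart p A := b.xPart_conj hkG hy.1
  have hc : ⁅k * k, y⁆ ∈ iPart p A := hk2.2
  have hprod : ⁅k, y * y'⁆ ∈ iPart p A := by
    have h1 : k * (y * y') * k⁻¹ = y' * (⁅k * k, y⁆ * y) := by
      simp [hy', commutatorElement_def, mul_assoc]
    have h2 := b.iPart_comm hc hy.1
    rw [show ⁅k, y * y'⁆ = k * (y * y') * k⁻¹ * (y * y')⁻¹ by rw [commutatorElement_def], h1, h2,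
      show y' * (y * ⁅k * k, y⁆) * (y * y')⁻¹ = (y' * y) * ⁅k * k, y⁆ * (y' * y)⁻¹ * ⁅y', y⁆ by
        simp [commutatorElement_def, mul_assoc],
      b.conj_iPart (mul_mem hy'X hy.1) hc]
    exact mul_mem hc (b.xx_mem hy'X hy.1)
  have hp' := b.fix_mem_iPart hg hgP ha haD ha₁ ha₁D (mul_mem hy.1 hy'X) hprod
  refine hyI (b.inverted_mem_iPart hp2 hgP hg ha haD ha₁ ha₁D hsq hop hy.1 ?_)
  show y' * y ∈ iPart p A
  rw [show y' * y = y⁻¹ * (y * y') * y⁻¹⁻¹ by group, b.conj_iPart (inv_mem hy.1) hp']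
  exact hp'

end Base

end Cfsg.Agent.Lib.GNilesMax
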